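import Mathlib
import Cfsg.Agent.Lib.Helper21.PL3Defs

/-!
# S2510, piece PL3-ROOTS (helper8): the `d`-th roots of unity of an extension of the finite field `F`
lie in `F` when `d ∣ q - 1`.
-/

set_option autoImplicit false
set_option linter.unusedSectionVars false
set_option linter.unusedVariables false

namespace Cfsg.Agent.Helper21.PL3

open Polynomial

variable {F : Type*} [Field F] [Fintype F]

/-- an element of an extension of `F` fixed by `x ↦ x^q` lies in `F` -/
theorem pl3_roots_mem_of_pow_card {K : Type*} [Field K] [Algebra F K] (κ : K)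
    (hκ : κ ^ Fintype.card F = κ) : ∃ a : F, algebraMap F K a = κ := by
  classical
  by_contra hne
  have hq : 1 < Fintype.card F := Fintype.one_lt_card
  have hP : (X ^ Fintype.card F - X : K[X]) ≠ 0 := FiniteField.X_pow_card_sub_X_ne_zero K hq
  have hdeg : (X ^ Fintype.card F - X : K[X]).natDegree = Fintype.card F :=
    FiniteField.X_pow_card_sub_X_natDegree_eq K hq
  set S : Finset K := Finset.univ.image (algebraMap F K) with hS
  have hScard : S.card = Fintype.card F := by
    rw [hS, Finset.card_image_of_injective _ (algebraMap F K).injective, Finset.card_univ]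
  have hκS : κ ∉ S := by
    intro h
    obtain ⟨a, _, ha⟩ := Finset.mem_image.1 h
    exact hne ⟨a, ha⟩
  have hsub : insert κ S ⊆ (X ^ Fintype.card F - X : K[X]).roots.toFinset := by
    intro x hx
    rw [Multiset.mem_toFinset, Polynomial.mem_roots hP, Polynomial.IsRoot.def]
    simp only [eval_sub, eval_pow, eval_X]
    rcases Finset.mem_insert.1 hx with h | h
    · rw [h, hκ, sub_self]
    · obtain ⟨a, _, ha⟩ := Finset.mem_image.1 h
      rw [← ha, ← map_pow, FiniteField.pow_card, sub_self]
  have h1 := Finset.card_le_card hsub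
  rw [Finset.card_insert_of_notMem hκS, hScard] at h1
  have h2 := (Multiset.toFinset_card_le _).trans (Polynomial.card_roots' (X ^ Fintype.card F - X : K[X]))
  rw [hdeg] at h2
  omega

/-- PIECE PL3-ROOTS [L1]. -/
theorem mem_range_of_pow_eq_one {K : Type*} [Field K] [Algebra F K] (d : ℕ)
    (hd : d ∣ Fintype.card F - 1) (κ : K) (hκ : κ ^ d = 1) :
    ∃ a : F, a ^ d = 1 ∧ algebraMap F K a = κ := by
  have hq : 1 < Fintype.card F := Fintype.one_lt_card
  obtain ⟨e, he⟩ := hd
  have h1 : κ ^ (Fintype.card F - 1) = 1 := by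
    rw [he, pow_mul, hκ, one_pow]
  have h2 : κ ^ Fintype.card F = κ := by
    have : Fintype.card F = (Fintype.card F - 1) + 1 := by omega
    rw [this, pow_succ, h1, one_mul]
  obtain ⟨a, ha⟩ := pl3_roots_mem_of_pow_card κ h2
  refine ⟨a, ?_, ha⟩
  apply (algebraMap F K).injective
  rw [map_pow, ha, hκ, map_one]

end Cfsg.Agent.Helper21.PL3
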