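import Mathlib
import Cfsg.Agent.Lib.Helper21.PL3Defs

/-!
# S2510 piece PL3-DETNORM (helper7): `det_eq_norm_pow`
-/

set_option autoImplicit false
set_option linter.unusedSectionVars false
set_option linter.unusedVariables false

namespace Cfsg.Agent.Helper21.PL3

open Polynomial

variable {F : Type*} [Field F] [Fintype F]

/-- PIECE PL3-DETNORM [L1]: `K` a field, `ψ : K → M_n(F)` an `F`-algebra map: `det (ψ θ) = N_{K/F}(θ)^m'`,
`[K:F] m' = n`.  (Make `Fin n → F` a `K`-space through `ψ`; `LinearMap.det_restrictScalars`,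
`LinearMap.det_smul`, `Module.finrank_mul_finrank`.) -/
theorem det_eq_norm_pow {n : ℕ} {K : Type*} [Field K] [Algebra F K] [FiniteDimensional F K]
    (ψ : K →ₐ[F] Matrix (Fin n) (Fin n) F) (θ : K) :
    ∃ m' : ℕ, Module.finrank F K * m' = n ∧ (ψ θ).det = (Algebra.norm F θ) ^ m' := by
  classical
  -- the `F`-algebra map into the endomorphisms of `V = Fin n → F`
  let φ : K →ₐ[F] Module.End F (Fin n → F) :=
    (Matrix.toLinAlgEquiv' : Matrix (Fin n) (Fin n) F ≃ₐ[F] _).toAlgHom.comp ψ
  let modK : Module K (Fin n → F) := Module.compHom (Fin n → F) φ.toRingHom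
  have hsmul : ∀ (k : K) (v : Fin n → F), k • v = (ψ k).mulVec v := by
    intro k v
    change φ k v = _
    simp [φ]
  have tower : IsScalarTower F K (Fin n → F) := by
    refine ⟨fun a k v => ?_⟩
    rw [hsmul, hsmul, map_smul, Matrix.smul_mulVec]
  have : Module.Finite K (Fin n → F) := Module.Finite.of_restrictScalars_finite F K (Fin n → F)
  refine ⟨Module.finrank K (Fin n → F), ?_, ?_⟩
  · rw [Module.finrank_mul_finrank F K (Fin n → F)]
    simp
  · -- the `K`-linear map `θ • id`
    let f : (Fin n → F) →ₗ[K] (Fin n → F) := θ • LinearMap.id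
    have hf : f.restrictScalars F = Matrix.toLin' (ψ θ) := by
      apply LinearMap.ext
      intro v
      simp only [LinearMap.coe_restrictScalars, f, LinearMap.smul_apply, LinearMap.id_coe, id_eq,
        Matrix.toLin'_apply]
      exact hsmul θ v
    have h1 : LinearMap.det (f.restrictScalars F) = Algebra.norm F (LinearMap.det f) :=
      LinearMap.det_restrictScalars
    rw [hf, LinearMap.det_toLin'] at h1
    rw [h1]
    have h2 : LinearMap.det f = θ ^ Module.finrank K (Fin n → F) := by
      simp only [f]
      rw [LinearMap.det_smul, LinearMap.det_id, mul_one]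
    rw [h2, map_pow]

end Cfsg.Agent.Helper21.PL3
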