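import Mathlib
import Cfsg.Agent.Lib.Helper21.PL3Defs

/-!
# S2510, PIECE PL3-FROBPOW (helper24): `θ ^ ((q^n - 1)/(q - 1)) = N(θ)^m'`
-/

set_option autoImplicit false
set_option linter.unusedSectionVars false
set_option linter.unusedVariables false

namespace Cfsg.Agent.Helper21.PL3

open Polynomial

variable {F : Type*} [Field F] [Fintype F]

/-- PIECE PL3-FROBPOW [L1]: `θ^N = ∏_{i<n} θ^(q^i) = (∏_{i<e} θ^(q^i))^m' = N_{K/F}(θ)^m'`
(`FiniteField.algebraMap_norm_eq_prod_pow`, `θ^(q^e) = θ`, `Nat.geomSum_eq`). -/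
theorem pow_geomSum_eq_one {K : Type*} [Field K] [Finite K] [Algebra F K] (θ : K) (m' n : ℕ)
    (hn : Module.finrank F K * m' = n) (hθ : (Algebra.norm F θ) ^ m' = 1) :
    θ ^ ((Fintype.card F ^ n - 1) / (Fintype.card F - 1)) = 1 := by
  have hq2 : 2 ≤ Fintype.card F := Fintype.one_lt_card
  rw [← Nat.geomSum_eq hq2 n, ← hn]
  have hs : θ ^ (∑ i ∈ Finset.range (Module.finrank F K), Fintype.card F ^ i) =
      algebraMap F K (Algebra.norm F θ) := by
    rw [FiniteField.algebraMap_norm_eq_pow_sum, Nat.card_eq_fintype_card]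
  have hfix : ∀ k : ℕ, (algebraMap F K (Algebra.norm F θ)) ^ (Fintype.card F ^ k) =
      algebraMap F K (Algebra.norm F θ) := by
    intro k
    rw [← map_pow, FiniteField.pow_card_pow]
  have key : ∀ m : ℕ, θ ^ (∑ i ∈ Finset.range (Module.finrank F K * m), Fintype.card F ^ i) =
      (algebraMap F K (Algebra.norm F θ)) ^ m := by
    intro m
    induction m with
    | zero => simp
    | succ m ih =>
      rw [Nat.mul_succ, Finset.sum_range_add, pow_add, ih]
      have h1 : ∑ x ∈ Finset.range (Module.finrank F K),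
          Fintype.card F ^ (Module.finrank F K * m + x) =
          Fintype.card F ^ (Module.finrank F K * m) *
            ∑ x ∈ Finset.range (Module.finrank F K), Fintype.card F ^ x := by
        rw [Finset.mul_sum]
        apply Finset.sum_congr rfl
        intro x _
        rw [pow_add]
      have h2 : θ ^ (Fintype.card F ^ (Module.finrank F K * m) *
          ∑ x ∈ Finset.range (Module.finrank F K), Fintype.card F ^ x) =
          algebraMap F K (Algebra.norm F θ) := by
        rw [mul_comm, pow_mul, hs, hfix]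
      rw [h1, h2, pow_succ]
  rw [key, ← map_pow, hθ, map_one]

end Cfsg.Agent.Helper21.PL3
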