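import Mathlib
import Cfsg.Agent.Lib.Helper21.PL3Defs

/-!
# S2510, piece PL3-GOODDEC (helper19): a lift commuting with a non-trivial idempotent is good.
-/

set_option autoImplicit false
set_option linter.unusedSectionVars false
set_option linter.unusedVariables false

namespace Cfsg.Agent.Helper21.PL3

open Polynomial

variable {F : Type*} [Field F] [Fintype F]

/-- the matrix `α e + β (1 - e)`. -/
def pl3_gooddec_t {n : ℕ} (e : Matrix (Fin n) (Fin n) F) (α β : F) : Matrix (Fin n) (Fin n) F :=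
  α • e + β • (1 - e)

theorem pl3_gooddec_t_mul {n : ℕ} {e : Matrix (Fin n) (Fin n) F} (he : e * e = e)
    (α β α' β' : F) :
    pl3_gooddec_t e α β * pl3_gooddec_t e α' β' = pl3_gooddec_t e (α * α') (β * β') := by
  unfold pl3_gooddec_t
  have h1 : e * (1 - e) = 0 := by rw [mul_sub, mul_one, he, sub_self]
  have h2 : (1 - e) * e = 0 := by rw [sub_mul, one_mul, he, sub_self]
  have h3 : (1 - e) * (1 - e) = 1 - e := by
    rw [mul_sub, mul_one, h2, sub_zero]
  rw [add_mul, mul_add, mul_add, smul_mul_smul_comm, smul_mul_smul_comm, smul_mul_smul_comm,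
    smul_mul_smul_comm, he, h1, h2, h3, smul_zero, smul_zero, add_zero, zero_add]

theorem pl3_gooddec_t_one {n : ℕ} (e : Matrix (Fin n) (Fin n) F) :
    pl3_gooddec_t e 1 1 = 1 := by
  unfold pl3_gooddec_t
  rw [one_smul, one_smul]; abel

theorem pl3_gooddec_t_pow {n : ℕ} {e : Matrix (Fin n) (Fin n) F} (he : e * e = e)
    (α β : F) (k : ℕ) :
    pl3_gooddec_t e α β ^ k = pl3_gooddec_t e (α ^ k) (β ^ k) := by
  induction k with
  | zero => rw [pow_zero, pow_zero, pow_zero, pl3_gooddec_t_one]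
  | succ k ih => rw [pow_succ, ih, pl3_gooddec_t_mul he, pow_succ, pow_succ]

theorem pl3_gooddec_t_commute {n : ℕ} {e g : Matrix (Fin n) (Fin n) F} (hc : Commute e g)
    (α β : F) : Commute (pl3_gooddec_t e α β) g := by
  unfold pl3_gooddec_t
  have h1 : Commute (1 - e) g := (Commute.one_left g).sub_left hc
  exact (hc.smul_left α).add_left (h1.smul_left β)

theorem pl3_gooddec_t_scalar {n : ℕ} {e : Matrix (Fin n) (Fin n) F} (he : e * e = e)
    (he0 : e ≠ 0) (he1 : e ≠ 1) {α β lam : F}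
    (h : pl3_gooddec_t e α β = lam • (1 : Matrix (Fin n) (Fin n) F)) : α = lam ∧ β = lam := by
  unfold pl3_gooddec_t at h
  have h1 : e * (1 - e) = 0 := by rw [mul_sub, mul_one, he, sub_self]
  have h3 : (1 - e) * (1 - e) = 1 - e := by
    rw [mul_sub, mul_one, sub_mul, one_mul, he, sub_self, sub_zero]
  constructor
  · have h2 := congrArg (fun m => e * m) h
    simp only [mul_add, mul_smul_comm, he, h1, smul_zero, add_zero, mul_one] at h2
    by_contra hne
    apply he0
    have h4 : (α - lam) • e = 0 := by rw [sub_smul, h2, sub_self]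
    rcases smul_eq_zero.1 h4 with h5 | h5
    · exact absurd (sub_eq_zero.1 h5) hne
    · exact h5
  · have h2 := congrArg (fun m => (1 - e) * m) h
    have h1' : (1 - e) * e = 0 := by rw [sub_mul, one_mul, he, sub_self]
    simp only [mul_add, mul_smul_comm, h1', h3, smul_zero, zero_add, mul_one] at h2
    by_contra hne
    apply he1
    have h4 : (β - lam) • (1 - e) = 0 := by rw [sub_smul, h2, sub_self]
    rcases smul_eq_zero.1 h4 with h5 | h5
    · exact absurd (sub_eq_zero.1 h5) hne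
    · exact (sub_eq_zero.1 h5).symm

/-- pigeonhole: some `(α, β) ≠ (1, 1)` in `μ_r × μ_r` with `det (α e + β (1 - e)) = 1`. -/
theorem pl3_gooddec_exists {n : ℕ} (r : ℕ) (hr : r.Prime) (hrq : r ∣ Fintype.card F - 1)
    {e : Matrix (Fin n) (Fin n) F} (he : e * e = e) :
    ∃ α β : F, α ^ r = 1 ∧ β ^ r = 1 ∧ ¬ (α = 1 ∧ β = 1) ∧ (pl3_gooddec_t e α β).det = 1 := by
  classical
  have hrf : Fact r.Prime := ⟨hr⟩
  have hcard : r ∣ Fintype.card Fˣ := by rw [Fintype.card_units]; exact hrq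
  obtain ⟨u, hu⟩ := exists_prime_orderOf_dvd_card r hcard
  set ζ : F := (u : F) with hζ
  have hζo : orderOf ζ = r := by rw [hζ, orderOf_units, hu]
  have hprim : IsPrimitiveRoot ζ r := by rw [← hζo]; exact IsPrimitiveRoot.orderOf ζ
  have hrne : NeZero r := ⟨hr.ne_zero⟩
  have hζr : ζ ^ r = 1 := hprim.pow_eq_one
  -- the two determinants
  have hD : ∀ i j : ℕ, (pl3_gooddec_t e (ζ ^ i) (ζ ^ j)).det =
      (pl3_gooddec_t e ζ 1).det ^ i * (pl3_gooddec_t e 1 ζ).det ^ j := by
    intro i j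
    rw [← Matrix.det_pow, ← Matrix.det_pow, ← Matrix.det_mul, pl3_gooddec_t_pow he,
      pl3_gooddec_t_pow he, pl3_gooddec_t_mul he, one_pow, one_pow, mul_one, one_mul]
  have hA : (pl3_gooddec_t e ζ 1).det ^ r = 1 := by
    rw [← Matrix.det_pow, pl3_gooddec_t_pow he, hζr, one_pow, pl3_gooddec_t_one, Matrix.det_one]
  have hB : (pl3_gooddec_t e 1 ζ).det ^ r = 1 := by
    rw [← Matrix.det_pow, pl3_gooddec_t_pow he, hζr, one_pow, pl3_gooddec_t_one, Matrix.det_one]
  obtain ⟨a, ha, hAa⟩ := hprim.eq_pow_of_pow_eq_one hA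
  obtain ⟨b, hb, hBb⟩ := hprim.eq_pow_of_pow_eq_one hB
  have hpow1 : ∀ k : ℕ, (ζ ^ k) ^ r = 1 := by
    intro k; rw [← pow_mul, mul_comm, pow_mul, hζr, one_pow]
  by_cases ha0 : a = 0
  · refine ⟨ζ, 1, hζr, one_pow r, ?_, ?_⟩
    · rintro ⟨h1, -⟩
      have := hprim.pow_ne_one_of_pos_of_lt (one_ne_zero) hr.one_lt
      rw [pow_one] at this
      exact this h1
    · rw [← hAa, ha0, pow_zero]
  · refine ⟨ζ ^ (b * (r - 1)), ζ ^ a, hpow1 _, hpow1 _, ?_, ?_⟩
    · rintro ⟨-, h1⟩
      exact hprim.pow_ne_one_of_pos_of_lt ha0 ha h1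
    · rw [hD, ← hAa, ← hBb, ← pow_mul, ← pow_mul, ← pow_add]
      have : a * (b * (r - 1)) + b * a = a * b * r := by
        have h1 : r - 1 + 1 = r := Nat.sub_add_cancel hr.one_lt.le
        calc a * (b * (r - 1)) + b * a = a * b * (r - 1 + 1) := by ring
          _ = a * b * r := by rw [h1]
      rw [this, mul_comm, pow_mul, hζr, one_pow]

theorem good_of_idempotent {n : ℕ} (r : ℕ) (hr : r.Prime) (hrq : r ∣ Fintype.card F - 1)
    (hrn : ¬ r ∣ n) (g : Matrix.SpecialLinearGroup (Fin n) F) (e : Matrix (Fin n) (Fin n) F)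
    (he : e * e = e) (he0 : e ≠ 0) (he1 : e ≠ 1)
    (hc : Commute e (g : Matrix (Fin n) (Fin n) F)) :
    Good r (QuotientGroup.mk g : Matrix.ProjectiveSpecialLinearGroup (Fin n) F) := by
  classical
  have hrf : Fact r.Prime := ⟨hr⟩
  obtain ⟨α, β, hα, hβ, hne, hdet⟩ := pl3_gooddec_exists r hr hrq he
  set t : Matrix.SpecialLinearGroup (Fin n) F := ⟨pl3_gooddec_t e α β, hdet⟩ with ht
  have htr : t ^ r = 1 := by
    apply Subtype.ext
    rw [Matrix.SpecialLinearGroup.coe_pow, Matrix.SpecialLinearGroup.coe_one]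
    show pl3_gooddec_t e α β ^ r = 1
    rw [pl3_gooddec_t_pow he, hα, hβ, pl3_gooddec_t_one]
  have htg : Commute t g := by
    apply Subtype.ext
    rw [Matrix.SpecialLinearGroup.coe_mul, Matrix.SpecialLinearGroup.coe_mul]
    exact pl3_gooddec_t_commute hc α β
  have htc : t ∉ Subgroup.center (Matrix.SpecialLinearGroup (Fin n) F) := by
    intro hmem
    obtain ⟨lam, hlam, hsc⟩ := Matrix.SpecialLinearGroup.mem_center_iff.1 hmem
    rw [Fintype.card_fin] at hlam
    have hsc' : pl3_gooddec_t e α β = lam • (1 : Matrix (Fin n) (Fin n) F) := by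
      have : (t : Matrix (Fin n) (Fin n) F) = Matrix.scalar (Fin n) lam := hsc.symm
      rw [Matrix.scalar_apply, ← Matrix.smul_one_eq_diagonal] at this
      exact this
    obtain ⟨h1, h2⟩ := pl3_gooddec_t_scalar he he0 he1 hsc'
    have hlr : lam ^ r = 1 := by rw [← h1]; exact hα
    have hl1 : lam = 1 := by
      have hcop : Nat.Coprime r n := (Nat.Prime.coprime_iff_not_dvd hr).2 hrn
      have ho1 : orderOf lam ∣ r := orderOf_dvd_of_pow_eq_one hlr
      have ho2 : orderOf lam ∣ n := orderOf_dvd_of_pow_eq_one hlam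
      have : orderOf lam ∣ 1 := by
        have := Nat.dvd_gcd ho1 ho2
        rwa [hcop] at this
      exact orderOf_eq_one_iff.1 (Nat.dvd_one.1 this)
    exact hne ⟨h1.trans hl1, h2.trans hl1⟩
  set y : Matrix.ProjectiveSpecialLinearGroup (Fin n) F := QuotientGroup.mk t with hy
  set x : Matrix.ProjectiveSpecialLinearGroup (Fin n) F := QuotientGroup.mk g with hx
  have hyr : y ^ r = 1 := by
    rw [hy, ← QuotientGroup.mk_pow, htr]; rfl
  have hy1 : y ≠ 1 := by
    intro h
    exact htc ((QuotientGroup.eq_one_iff t).1 h)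
  have hyo : orderOf y = r := orderOf_eq_prime hyr hy1
  have hxy : Commute x y := by
    show x * y = y * x
    rw [hx, hy, ← QuotientGroup.mk_mul, ← QuotientGroup.mk_mul, htg.eq]
  by_cases hdiv : r ∣ orderOf x
  · exact ⟨x, (Nat.lcm_eq_left hdiv).symm⟩
  · have hcop : Nat.Coprime (orderOf x) (orderOf y) := by
      rw [hyo]; exact ((Nat.Prime.coprime_iff_not_dvd hr).2 hdiv).symm
    refine ⟨x * y, ?_⟩
    rw [hxy.orderOf_mul_eq_mul_orderOf_of_coprime hcop, hyo]
    rw [hyo] at hcop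
    exact hcop.lcm_eq_mul.symm

end Cfsg.Agent.Helper21.PL3
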