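import Mathlib
import Cfsg.Agent.Lib.Helper21.PL3Defs

/-!
# S2510, PIECE PL3-IRRED (helper14): a matrix of order prime to `p` whose minimal polynomial is not irreducible
commutes (together with its whole centraliser) with a non-trivial idempotent.
-/

set_option autoImplicit false
set_option linter.unusedSectionVars false
set_option linter.unusedVariables false

namespace Cfsg.Agent.Helper21.PL3

open Polynomial

variable {F : Type*} [Field F] [Fintype F]

/-- an element commuting with `h` commutes with every polynomial in `h` -/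
theorem pl3_irred_commute_aeval {A : Type*} [Ring A] [Algebra F A] (g h : A) (hc : Commute g h)
    (p : F[X]) : Commute g (aeval h p) := by
  induction p using Polynomial.induction_on' with
  | add p q hp hq => rw [map_add]; exact hp.add_right hq
  | monomial n a =>
    rw [aeval_monomial]
    have h1 : Commute g (algebraMap F A a) := (Algebra.commutes a g).symm
    exact h1.mul_right (hc.pow_right n)

/-- abstract form: `h` in a nontrivial `F`-algebra, integral, with separable non-irreducible minimal polynomial -/
theorem pl3_irred_abstract {A : Type*} [Ring A] [Nontrivial A] [Algebra F A] (h : A)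
    (hint : IsIntegral F h) (hsep : (minpoly F h).Separable)
    (hirr : ¬ Irreducible (minpoly F h)) :
    ∃ e : A, e * e = e ∧ e ≠ 0 ∧ e ≠ 1 ∧ ∀ g : A, Commute g h → Commute e g := by
  have hnu : ¬ IsUnit (minpoly F h) := minpoly.not_isUnit F h
  have hne : minpoly F h ≠ 0 := minpoly.ne_zero hint
  -- a proper factorisation
  have hfac : ∃ a b : F[X], minpoly F h = a * b ∧ ¬ IsUnit a ∧ ¬ IsUnit b := by
    by_contra hcon
    apply hirr
    rw [irreducible_iff]
    refine ⟨hnu, ?_⟩
    intro a b hab
    by_contra hor
    rw [not_or] at hor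
    exact hcon ⟨a, b, hab, hor.1, hor.2⟩
  obtain ⟨a, b, hab, hua, hub⟩ := hfac
  have ha0 : a ≠ 0 := by
    intro h0; rw [h0, zero_mul] at hab; exact hne hab
  have hb0 : b ≠ 0 := by
    intro h0; rw [h0, mul_zero] at hab; exact hne hab
  have hcop : IsCoprime a b := by
    rw [hab] at hsep
    exact hsep.isCoprime
  obtain ⟨u, v, huv⟩ := hcop
  -- `u * a + v * b = 1`
  have hzero : aeval h (a * b) = 0 := by rw [← hab]; exact minpoly.aeval F h
  have hsum : aeval h (u * a) + aeval h (v * b) = 1 := by
    rw [← map_add, huv, map_one]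
  have hprod : aeval h (u * a) * aeval h (v * b) = 0 := by
    rw [← map_mul]
    have : u * a * (v * b) = (u * v) * (a * b) := by ring
    rw [this, map_mul, hzero, mul_zero]
  refine ⟨aeval h (u * a), ?_, ?_, ?_, ?_⟩
  · -- idempotent
    have h1 : aeval h (u * a) = aeval h (u * a) * (aeval h (u * a) + aeval h (v * b)) := by
      rw [hsum, mul_one]
    rw [mul_add, hprod, add_zero] at h1
    exact h1.symm
  · -- `e ≠ 0`
    intro he
    have hdvd : minpoly F h ∣ u * a := minpoly.dvd F h he
    rw [hab, mul_comm a b] at hdvd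
    have hbu : b ∣ u := (mul_dvd_mul_iff_right ha0).1 hdvd
    have hb1 : b ∣ 1 := by
      rw [← huv]
      exact dvd_add (Dvd.dvd.mul_right hbu a) (Dvd.intro_left v rfl)
    exact hub (isUnit_of_dvd_one hb1)
  · -- `e ≠ 1`
    intro he
    have he' : aeval h (v * b) = 0 := by
      have := hsum
      rw [he] at this
      exact add_left_cancel (this.trans (add_zero 1).symm)
    have hdvd : minpoly F h ∣ v * b := minpoly.dvd F h he'
    rw [hab] at hdvd
    have hav : a ∣ v := (mul_dvd_mul_iff_right hb0).1 hdvd
    have ha1 : a ∣ 1 := by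
      rw [← huv]
      exact dvd_add (Dvd.intro_left u rfl) (Dvd.dvd.mul_right hav b)
    exact hua (isUnit_of_dvd_one ha1)
  · intro g hg
    exact (pl3_irred_commute_aeval g h hg (u * a)).symm

/-- PIECE PL3-IRRED [L1] -/
theorem exists_idempotent_of_not_irreducible {n : ℕ} (hn : 0 < n) (h : Matrix (Fin n) (Fin n) F)
    (k : ℕ) (hk : h ^ k = 1) (hkF : (k : F) ≠ 0) (hirr : ¬ Irreducible (minpoly F h)) :
    ∃ e : Matrix (Fin n) (Fin n) F, e * e = e ∧ e ≠ 0 ∧ e ≠ 1 ∧
      ∀ g : Matrix (Fin n) (Fin n) F, Commute g h → Commute e g := by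
  have : Nonempty (Fin n) := ⟨⟨0, hn⟩⟩
  have hint : IsIntegral F h := Matrix.isIntegral h
  have hsepX : (X ^ k - C (1 : F)).Separable :=
    Polynomial.separable_X_pow_sub_C (1 : F) hkF one_ne_zero
  have hdvd : minpoly F h ∣ X ^ k - C (1 : F) := by
    apply minpoly.dvd
    simp [hk]
  have hsep : (minpoly F h).Separable := hsepX.of_dvd hdvd
  exact pl3_irred_abstract h hint hsep hirr

end Cfsg.Agent.Helper21.PL3
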