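import Mathlib
import Cfsg.Agent.Lib.Helper21.PL3Defs

/-!
# S2510, piece PL3-NUM (helper8): `gcd(n, q-1)` divides `(q^n-1)/(q-1)`, and the formula for `torusOrd`.
-/

set_option autoImplicit false
set_option linter.unusedSectionVars false
set_option linter.unusedVariables false

namespace Cfsg.Agent.Helper21.PL3

open Polynomial

/-- `∑_{i<n} q^i ≡ n` modulo `q - 1` -/
theorem pl3_num_geomSum_modEq (q n : ℕ) (hq : 1 ≤ q) :
    (∑ i ∈ Finset.range n, q ^ i) ≡ n [MOD (q - 1)] := by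
  have hq1 : q ≡ 1 [MOD (q - 1)] := by
    obtain ⟨m, rfl⟩ : ∃ m, q = m + 1 := ⟨q - 1, by omega⟩
    rw [Nat.add_sub_cancel]
    unfold Nat.ModEq
    rw [Nat.add_mod_left]
  induction n with
  | zero => simp [Nat.ModEq]
  | succ k ih =>
    rw [Finset.sum_range_succ]
    have h2 : q ^ k ≡ 1 [MOD (q - 1)] := by
      have := hq1.pow k
      rwa [one_pow] at this
    exact ih.add h2

/-- PIECE PL3-NUM [L1]. -/
theorem torusOrd_eq (q n : ℕ) (hq : 2 ≤ q) (hn : 1 ≤ n) :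
    Nat.gcd n (q - 1) ∣ (q ^ n - 1) / (q - 1) ∧
      torusOrd q n = (q ^ n - 1) / (q - 1) / Nat.gcd n (q - 1) := by
  constructor
  · rw [← Nat.geomSum_eq hq n]
    have h1 := pl3_num_geomSum_modEq q n (by omega)
    have h2 : (∑ i ∈ Finset.range n, q ^ i) ≡ n [MOD (Nat.gcd n (q - 1))] :=
      h1.of_dvd (Nat.gcd_dvd_right n (q - 1))
    exact (h2.dvd_iff (dvd_refl _)).2 (Nat.gcd_dvd_left n (q - 1))
  · unfold torusOrd
    rw [Nat.div_div_eq_div_mul]

end Cfsg.Agent.Helper21.PL3
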