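import Mathlib
import Cfsg.Agent.Lib.Helper21.PL3Defs

/-!
PIECE PL3-TORUS of S2510 (owner helper21), core: the statements of `det_eq_norm_pow`,
`pow_geomSum_eq_one`, `mem_range_of_pow_eq_one`, `torusOrd_eq` as hypotheses.
-/

set_option autoImplicit false
set_option linter.unusedSectionVars false
set_option linter.unusedVariables false

namespace Cfsg.Agent.Helper21.PL3

open Polynomial

universe u

/-- the algebra map `F[X]/(μ) → M_n(F)`, `root ↦ H`, `μ` the minimal polynomial of `H` -/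
theorem pl3_torus_exists_hom {F : Type u} [Field F] {n : ℕ} (H : Matrix (Fin n) (Fin n) F) :
    ∃ ψ : AdjoinRoot (minpoly F H) →ₐ[F] Matrix (Fin n) (Fin n) F,
      ψ (AdjoinRoot.root (minpoly F H)) = H := by
  have hI : ∀ a : F[X], a ∈ Ideal.span {minpoly F H} → (Polynomial.aeval H) a = 0 := by
    intro a ha
    obtain ⟨b, rfl⟩ := Ideal.mem_span_singleton.1 ha
    rw [map_mul, minpoly.aeval, zero_mul]
  refine ⟨Ideal.Quotient.liftₐ (Ideal.span {minpoly F H}) (Polynomial.aeval H) hI, ?_⟩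
  show Ideal.Quotient.liftₐ (Ideal.span {minpoly F H}) (Polynomial.aeval H) hI
    (Ideal.Quotient.mk _ X) = H
  rw [Ideal.Quotient.liftₐ_apply]
  show (Polynomial.aeval H) X = H
  exact Polynomial.aeval_X H

theorem pl3_torus_core {F : Type u} [Field F] [Fintype F] {n : ℕ} (hn : 1 ≤ n)
    (hdet : ∀ {K : Type u} [Field K] [Algebra F K] [FiniteDimensional F K]
      (ψ : K →ₐ[F] Matrix (Fin n) (Fin n) F) (θ : K),
      ∃ m' : ℕ, Module.finrank F K * m' = n ∧ (ψ θ).det = (Algebra.norm F θ) ^ m')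
    (hfrob : ∀ {K : Type u} [Field K] [Finite K] [Algebra F K] (θ : K) (m' n : ℕ),
      Module.finrank F K * m' = n → (Algebra.norm F θ) ^ m' = 1 →
      θ ^ ((Fintype.card F ^ n - 1) / (Fintype.card F - 1)) = 1)
    (hroots : ∀ {K : Type u} [Field K] [Algebra F K] (d : ℕ), d ∣ Fintype.card F - 1 →
      ∀ κ : K, κ ^ d = 1 → ∃ a : F, a ^ d = 1 ∧ algebraMap F K a = κ)
    (hnum : Nat.gcd n (Fintype.card F - 1) ∣ (Fintype.card F ^ n - 1) / (Fintype.card F - 1) ∧
      torusOrd (Fintype.card F) n =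
        (Fintype.card F ^ n - 1) / (Fintype.card F - 1) / Nat.gcd n (Fintype.card F - 1))
    (h : Matrix.SpecialLinearGroup (Fin n) F)
    (hirr : Irreducible (minpoly F (h : Matrix (Fin n) (Fin n) F))) :
    (QuotientGroup.mk h : Matrix.ProjectiveSpecialLinearGroup (Fin n) F) ^
      torusOrd (Fintype.card F) n = 1 := by
  set H : Matrix (Fin n) (Fin n) F := (h : Matrix (Fin n) (Fin n) F) with hH
  have hfact : Fact (Irreducible (minpoly F H)) := ⟨hirr⟩
  have hmonic : (minpoly F H).Monic := minpoly.monic (Matrix.isIntegral H)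
  have hfd : FiniteDimensional F (AdjoinRoot (minpoly F H)) := hmonic.finite_adjoinRoot
  have hfin : Finite (AdjoinRoot (minpoly F H)) := Module.finite_of_finite F
  obtain ⟨ψ, hψ⟩ := pl3_torus_exists_hom H
  set θ := AdjoinRoot.root (minpoly F H) with hθdef
  obtain ⟨m', hm', hdetψ⟩ := hdet ψ θ
  have hnorm : (Algebra.norm F θ) ^ m' = 1 := by
    rw [← hdetψ, hψ]
    exact h.2
  have hθN := hfrob θ m' n hm' hnorm
  obtain ⟨hdvd, hM⟩ := hnum
  set N := (Fintype.card F ^ n - 1) / (Fintype.card F - 1) with hN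
  set d := Nat.gcd n (Fintype.card F - 1) with hd
  have hκ : (θ ^ (N / d)) ^ d = 1 := by
    rw [← pow_mul, Nat.div_mul_cancel hdvd]
    exact hθN
  obtain ⟨a, had, haκ⟩ := hroots d (Nat.gcd_dvd_right _ _) (θ ^ (N / d)) hκ
  -- `H ^ (N / d)` is the scalar `a`
  have hscal : H ^ (N / d) = a • (1 : Matrix (Fin n) (Fin n) F) := by
    rw [← hψ, ← map_pow, ← haκ, AlgHom.commutes, Algebra.algebraMap_eq_smul_one]
  rw [hM, ← QuotientGroup.mk_pow, QuotientGroup.eq_one_iff, Subgroup.mem_center_iff]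
  intro g
  apply Subtype.ext
  rw [Matrix.SpecialLinearGroup.coe_mul, Matrix.SpecialLinearGroup.coe_mul,
    Matrix.SpecialLinearGroup.coe_pow, ← hH, hscal, Matrix.mul_smul, Matrix.smul_mul, mul_one,
    one_mul]

end Cfsg.Agent.Helper21.PL3
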