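import Mathlib
import Cfsg.Agent.Lib.Helper21.PL3Defs
import Cfsg.Agent.Lib.PL3.PL3NUM
import Cfsg.Agent.Lib.PL3.PL3ROOTS
import Cfsg.Agent.Lib.PL3.PL3DETNORM
import Cfsg.Agent.Lib.PL3.PL3FROBPOW
import Cfsg.Agent.Lib.PL3.PL3TORUSCore

/-!
PIECE PL3-TORUS of S2510 (owner helper21): an element of `SL_n` with irreducible minimal polynomial
has order dividing `torusOrd` modulo the centre.
-/

set_option autoImplicit false
set_option linter.unusedSectionVars false
set_option linter.unusedVariables false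

namespace Cfsg.Agent.Helper21.PL3

open Polynomial

variable {F : Type*} [Field F] [Fintype F]

/-- PIECE PL3-TORUS [L2, uses det_eq_norm_pow, pow_geomSum_eq_one, mem_range_of_pow_eq_one, torusOrd_eq]:
`K = AdjoinRoot μ`, `ψ root = h`; `N(root)^m' = det h = 1`, so `root^N = 1`, `κ = root^(N/d)` is a `d`-th
root of unity, hence in `F`, and `h^(N/d)` is a scalar of determinant `1`. -/
theorem mk_pow_torusOrd_eq_one {n : ℕ} (hn : 1 ≤ n) (h : Matrix.SpecialLinearGroup (Fin n) F)
    (hirr : Irreducible (minpoly F (h : Matrix (Fin n) (Fin n) F))) :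
    (QuotientGroup.mk h : Matrix.ProjectiveSpecialLinearGroup (Fin n) F) ^
      torusOrd (Fintype.card F) n = 1 :=
  pl3_torus_core hn (fun ψ θ => det_eq_norm_pow ψ θ)
    (fun θ m' n hn hθ => pow_geomSum_eq_one θ m' n hn hθ)
    (fun d hd κ hκ => mem_range_of_pow_eq_one d hd κ hκ)
    (torusOrd_eq (Fintype.card F) n Fintype.one_lt_card hn) h hirr

end Cfsg.Agent.Helper21.PL3
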