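import Mathlib
import Cfsg.Agent.Lib.Helper21.PL3Defs
import Cfsg.Agent.Lib.PL3.PL3GOODDEC
import Cfsg.Agent.Lib.PL3.PL3IRRED
import Cfsg.Agent.Lib.PL3.PL3TORUS

/-!
# S2510 piece PL3-KEY: the orders of the bad elements of `PSL_n(q)`.
-/

set_option autoImplicit false
set_option linter.unusedSectionVars false
set_option linter.unusedVariables false

namespace Cfsg.Agent.Helper21.PL3

open Polynomial

variable {F : Type*} [Field F] [Fintype F]

/-- the `p'`-part of a positive natural number -/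
theorem pl3_key_split (p : ℕ) (hp : p.Prime) (o : ℕ) (ho : 0 < o) :
    ∃ t c : ℕ, o = p ^ t * c ∧ ¬ p ∣ c := by
  obtain ⟨t, c, hc, ho'⟩ := Nat.exists_eq_pow_mul_and_not_dvd ho.ne' p hp.ne_one
  exact ⟨t, c, ho', hc⟩

/-- PIECE PL3-KEY [L3]. -/
theorem key {n : ℕ} (hn : 2 ≤ n) (p : ℕ) [Fact p.Prime] [CharP F p] (r : ℕ) (hr : r.Prime)
    (hrq : r ∣ Fintype.card F - 1) (hrn : ¬ r ∣ n)
    (x : Matrix.ProjectiveSpecialLinearGroup (Fin n) F) (hx : ¬ Good r x) :
    ∃ t c : ℕ, orderOf x = p ^ t * c ∧ ¬ p ∣ c ∧ c ∣ torusOrd (Fintype.card F) n := by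
  classical
  have hp : p.Prime := Fact.out
  haveI : Finite (Matrix.ProjectiveSpecialLinearGroup (Fin n) F) := by
    unfold Matrix.ProjectiveSpecialLinearGroup
    infer_instance
  have ho : 0 < orderOf x := orderOf_pos x
  obtain ⟨t, c, hoc, hpc⟩ := pl3_key_split p hp (orderOf x) ho
  refine ⟨t, c, hoc, hpc, ?_⟩
  have hc0 : 0 < c := by
    rcases Nat.eq_zero_or_pos c with h | h
    · rw [h, mul_zero] at hoc; omega
    · exact h
  obtain ⟨g, rfl⟩ := QuotientGroup.mk_surjective x
  set h : Matrix.SpecialLinearGroup (Fin n) F := g ^ (p ^ t) with hh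
  -- the order of `mk h`
  have hordh : orderOf (QuotientGroup.mk h : Matrix.ProjectiveSpecialLinearGroup (Fin n) F) = c := by
    rw [hh, QuotientGroup.mk_pow, orderOf_pow' _ (pow_pos hp.pos t).ne', hoc,
      Nat.gcd_eq_right (Dvd.intro _ rfl), Nat.mul_div_cancel_left _ (pow_pos hp.pos t)]
  -- `h ^ c` is central, hence a scalar
  have hcen : h ^ c ∈ Subgroup.center (Matrix.SpecialLinearGroup (Fin n) F) := by
    rw [← QuotientGroup.eq_one_iff, QuotientGroup.mk_pow, ← hordh, pow_orderOf_eq_one]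
  rw [Matrix.SpecialLinearGroup.mem_center_iff] at hcen
  obtain ⟨lam, hlam, hscal⟩ := hcen
  rw [Fintype.card_fin] at hlam
  have hq1 : 1 < Fintype.card F := Fintype.one_lt_card
  have hlam0 : lam ≠ 0 := by
    rintro rfl
    rw [zero_pow (by omega : n ≠ 0)] at hlam
    exact zero_ne_one hlam
  -- the matrix `H = h.val` has order prime to `p`
  set H : Matrix (Fin n) (Fin n) F := (h : Matrix (Fin n) (Fin n) F) with hH
  have hHc : H ^ c = Matrix.scalar (Fin n) lam := by
    rw [hscal]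
    exact (Matrix.SpecialLinearGroup.coe_pow h c).symm
  have hHk : H ^ (c * (Fintype.card F - 1)) = 1 := by
    rw [pow_mul, hHc, ← map_pow, FiniteField.pow_card_sub_one_eq_one lam hlam0, map_one]
  have hkF : ((c * (Fintype.card F - 1) : ℕ) : F) ≠ 0 := by
    rw [Ne, CharP.cast_eq_zero_iff F p, hp.dvd_mul, not_or]
    refine ⟨hpc, ?_⟩
    intro hdvd
    obtain ⟨k, hk⟩ := FiniteField.card F p
    have h2 : p ∣ Fintype.card F := by
      rw [hk.2]; exact dvd_pow_self p k.pos.ne'
    have h3 : p ∣ 1 := by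
      have h4 : Fintype.card F - (Fintype.card F - 1) = 1 := by omega
      rw [← h4]; exact Nat.dvd_sub h2 hdvd
    exact hp.one_lt.ne' (Nat.dvd_one.1 h3)
  -- irreducibility of the minimal polynomial
  have hirr : Irreducible (minpoly F H) := by
    by_contra hnirr
    obtain ⟨e, he, he0, he1, hcomm⟩ :=
      exists_idempotent_of_not_irreducible (by omega : 0 < n) H _ hHk hkF hnirr
    apply hx
    refine good_of_idempotent r hr hrq hrn g e he he0 he1 (hcomm _ ?_)
    rw [hH, hh, Matrix.SpecialLinearGroup.coe_pow]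
    exact (Commute.refl _).pow_right _
  have h5 := mk_pow_torusOrd_eq_one (by omega : 1 ≤ n) h hirr
  rw [← hordh]
  exact orderOf_dvd_of_pow_eq_one h5

end Cfsg.Agent.Helper21.PL3
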