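import Mathlib
import Cfsg.Agent.Lib.Helper21.PL3Defs

/-!
# S2510, piece PL3-LCM (helper8): `lcm (p^t₁ c₁) (p^t₂ c₂) = p^max * lcm c₁ c₂` for `p ∤ c_i`.
-/

set_option autoImplicit false
set_option linter.unusedSectionVars false
set_option linter.unusedVariables false

namespace Cfsg.Agent.Helper21.PL3

open Polynomial

/-- a prime dividing neither `c₁` nor `c₂` does not divide their lcm -/
theorem pl3_lcm_not_dvd (p : ℕ) (hp : p.Prime) (c1 c2 : ℕ) (h1 : ¬ p ∣ c1) (h2 : ¬ p ∣ c2) :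
    ¬ p ∣ Nat.lcm c1 c2 := by
  intro h
  have h3 : p ∣ c1 * c2 := h.trans (Nat.lcm_dvd_mul c1 c2)
  rcases (Nat.Prime.dvd_mul hp).1 h3 with h4 | h4
  · exact h1 h4
  · exact h2 h4

/-- PIECE PL3-LCM (2/2). -/
theorem lcm_two (p : ℕ) (hp : p.Prime) (t1 t2 c1 c2 : ℕ) (h1 : ¬ p ∣ c1) (h2 : ¬ p ∣ c2) :
    Nat.lcm (p ^ t1 * c1) (p ^ t2 * c2) = p ^ (max t1 t2) * Nat.lcm c1 c2 := by
  apply Nat.dvd_antisymm
  · apply Nat.lcm_dvd
    · exact mul_dvd_mul (pow_dvd_pow p (le_max_left t1 t2)) (Nat.dvd_lcm_left c1 c2)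
    · exact mul_dvd_mul (pow_dvd_pow p (le_max_right t1 t2)) (Nat.dvd_lcm_right c1 c2)
  · have hcop : Nat.Coprime (p ^ (max t1 t2)) (Nat.lcm c1 c2) :=
      Nat.Coprime.pow_left _ ((Nat.Prime.coprime_iff_not_dvd hp).2 (pl3_lcm_not_dvd p hp c1 c2 h1 h2))
    apply Nat.Coprime.mul_dvd_of_dvd_of_dvd hcop
    · rcases le_total t1 t2 with h | h
      · rw [max_eq_right h]
        exact (Dvd.intro _ rfl).trans (Nat.dvd_lcm_right _ _)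
      · rw [max_eq_left h]
        exact (Dvd.intro _ rfl).trans (Nat.dvd_lcm_left _ _)
    · apply Nat.lcm_dvd
      · exact (Dvd.intro_left _ rfl).trans (Nat.dvd_lcm_left _ _)
      · exact (Dvd.intro_left _ rfl).trans (Nat.dvd_lcm_right _ _)

/-- PIECE PL3-LCM [L1] (1/2): arithmetic. -/
theorem lcm_three (p : ℕ) (hp : p.Prime) (t1 t2 t3 c1 c2 c3 : ℕ) (h1 : ¬ p ∣ c1) (h2 : ¬ p ∣ c2)
    (h3 : ¬ p ∣ c3) :
    Nat.lcm (p ^ t1 * c1) (Nat.lcm (p ^ t2 * c2) (p ^ t3 * c3)) =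
      p ^ (max t1 (max t2 t3)) * Nat.lcm c1 (Nat.lcm c2 c3) := by
  rw [lcm_two p hp t2 t3 c2 c3 h2 h3,
    lcm_two p hp t1 (max t2 t3) c1 (Nat.lcm c2 c3) h1 (pl3_lcm_not_dvd p hp c2 c3 h2 h3)]

end Cfsg.Agent.Helper21.PL3
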