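import Mathlib
import Cfsg.Agent.Lib.Helper21.PL3Defs
import Cfsg.Agent.Lib.PL3.PL3GOODDEC

/-!
# S2510, piece PL3-ORDR (helper19): an element of order `r` in `PSL_n(F)`.
-/

set_option autoImplicit false
set_option linter.unusedSectionVars false
set_option linter.unusedVariables false

namespace Cfsg.Agent.Helper21.PL3

open Polynomial

variable {F : Type*} [Field F] [Fintype F]

theorem exists_orderOf_eq_r {n : ℕ} (hn : 2 ≤ n) (r : ℕ) (hr : r.Prime)
    (hrq : r ∣ Fintype.card F - 1) (hrn : ¬ r ∣ n) :
    ∃ y : Matrix.ProjectiveSpecialLinearGroup (Fin n) F, orderOf y = r := by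
  classical
  set i0 : Fin n := ⟨0, by omega⟩ with hi0
  set i1 : Fin n := ⟨1, by omega⟩ with hi1
  have h01 : i1 ≠ i0 := by
    intro h
    have := congrArg Fin.val h
    simp [hi0, hi1] at this
  set e : Matrix (Fin n) (Fin n) F := Matrix.diagonal (fun i => if i = i0 then 1 else 0) with he
  have hee : e * e = e := by
    rw [he, Matrix.diagonal_mul_diagonal]
    congr 1
    funext i
    by_cases h : i = i0 <;> simp [h]
  have he0 : e ≠ 0 := by
    intro h
    have h1 := congrFun (congrFun h i0) i0
    rw [he, Matrix.diagonal_apply_eq] at h1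
    simp at h1
  have he1 : e ≠ 1 := by
    intro h
    have h1 := congrFun (congrFun h i1) i1
    rw [he, Matrix.diagonal_apply_eq, Matrix.one_apply_eq, if_neg h01] at h1
    exact zero_ne_one h1
  have hc : Commute e ((1 : Matrix.SpecialLinearGroup (Fin n) F) : Matrix (Fin n) (Fin n) F) := by
    rw [Matrix.SpecialLinearGroup.coe_one]
    exact Commute.one_right e
  obtain ⟨y, hy⟩ := good_of_idempotent r hr hrq hrn (1 : Matrix.SpecialLinearGroup (Fin n) F) e
    hee he0 he1 hc
  refine ⟨y, ?_⟩
  rw [hy]
  have : (QuotientGroup.mk (1 : Matrix.SpecialLinearGroup (Fin n) F) :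
      Matrix.ProjectiveSpecialLinearGroup (Fin n) F) = 1 := rfl
  rw [this, orderOf_one, Nat.lcm_one_left]

end Cfsg.Agent.Helper21.PL3
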