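import Mathlib
import Cfsg.Agent.Lib.Helper21.PL3Defs

/-!
# S2510, piece PL3-TORUSEX (helper4): `PSL_n(F)` has an element of order `torusOrd q n` (Singer torus).
-/

set_option autoImplicit false
set_option linter.unusedSectionVars false
set_option linter.unusedVariables false
set_option linter.style.haveILetI false

namespace Cfsg.Agent.Helper21.PL3

open Polynomial

/-- `∑_{i<n} q^i ≡ n` modulo `q - 1`. -/
theorem pl3_torusex_geomSum_modEq (q n : ℕ) (hq : 1 ≤ q) :
    (∑ k ∈ Finset.range n, q ^ k) ≡ n [MOD q - 1] := by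
  have h1 : q ≡ 1 [MOD q - 1] := ((Nat.modEq_iff_dvd' hq).2 (dvd_refl _)).symm
  induction n with
  | zero => simp; rfl
  | succ n ih =>
    rw [Finset.sum_range_succ]
    exact Nat.ModEq.add ih (by simpa using h1.pow n)

/-- the numerical facts: `N = (q^n-1)/(q-1)`. -/
theorem pl3_torusex_num (q n : ℕ) (hq : 2 ≤ q) :
    (q - 1) * ((q ^ n - 1) / (q - 1)) = q ^ n - 1 ∧
    (q ^ n - 1) / (q - 1) ≡ n [MOD q - 1] ∧
    Nat.gcd n (q - 1) * torusOrd q n = (q ^ n - 1) / (q - 1) := by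
  have hdvd : q - 1 ∣ q ^ n - 1 := Nat.sub_one_dvd_pow_sub_one q n
  have hmod : (q ^ n - 1) / (q - 1) ≡ n [MOD q - 1] := by
    rw [← Nat.geomSum_eq hq n]
    exact pl3_torusex_geomSum_modEq q n (by omega)
  refine ⟨Nat.mul_div_cancel' hdvd, hmod, ?_⟩
  have hd : Nat.gcd n (q - 1) ∣ (q ^ n - 1) / (q - 1) :=
    (Nat.ModEq.dvd_iff hmod (Nat.gcd_dvd_right n (q - 1))).2 (Nat.gcd_dvd_left n (q - 1))
  unfold torusOrd
  rw [← Nat.div_div_eq_div_mul]
  exact Nat.mul_div_cancel' hd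

/-- arithmetic: `N = d M`, `d = gcd(n, Q)`, `N ≡ n (mod Q)`, `N ∣ k Q`  ⇒  `M ∣ k`. -/
theorem pl3_torusex_arith (N n Q M k : ℕ) (hd0 : 0 < Nat.gcd n Q) (hNM : Nat.gcd n Q * M = N)
    (hmod : N ≡ n [MOD Q]) (h : N ∣ k * Q) : M ∣ k := by
  have hg : Nat.gcd N Q ∣ Nat.gcd n Q := by
    apply Nat.dvd_gcd _ (Nat.gcd_dvd_right N Q)
    exact (Nat.ModEq.dvd_iff hmod (Nat.gcd_dvd_right N Q)).1 (Nat.gcd_dvd_left N Q)
  obtain ⟨e, he⟩ := Nat.gcd_dvd_right n Q
  obtain ⟨d, hd⟩ : ∃ d : ℕ, d = Nat.gcd n Q := ⟨_, rfl⟩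
  rw [← hd] at hd0 hNM hg he
  have h1 : M ∣ k * e := by
    apply Nat.dvd_of_mul_dvd_mul_left hd0
    have : k * Q = d * (k * e) := by rw [he]; ring
    rw [hNM, ← this]
    exact h
  have hcop : Nat.Coprime M e := by
    have h2 : d * Nat.gcd M e ∣ Nat.gcd N Q := by
      apply Nat.dvd_gcd
      · rw [← hNM]
        exact Nat.mul_dvd_mul_left _ (Nat.gcd_dvd_left M e)
      · rw [he]
        exact Nat.mul_dvd_mul_left _ (Nat.gcd_dvd_right M e)
    have h3 : d * Nat.gcd M e ∣ d * 1 := by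
      rw [mul_one]; exact h2.trans hg
    exact Nat.eq_one_of_dvd_one (Nat.dvd_of_mul_dvd_mul_left hd0 h3)
  exact Nat.Coprime.dvd_of_dvd_mul_right hcop h1

variable {F : Type*} [Field F] [Fintype F]

/-- An element of a field extension fixed by the `q`-power map lies in the base field. -/
theorem pl3_torusex_mem_range_of_pow_card {K : Type*} [Field K] [Algebra F K] (y : K)
    (hy : y ^ Fintype.card F = y) : ∃ a : F, algebraMap F K a = y := by
  classical
  have hq1 : 1 < Fintype.card F := Fintype.one_lt_card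
  set P : K[X] := X ^ Fintype.card F - X with hP
  have hP0 : P ≠ 0 := FiniteField.X_pow_card_sub_X_ne_zero K hq1
  have hdeg : P.natDegree = Fintype.card F := FiniteField.X_pow_card_sub_X_natDegree_eq K hq1
  let S : Finset K := Finset.univ.image (algebraMap F K)
  have hScard : S.card = Fintype.card F := by
    rw [Finset.card_image_of_injective _ (algebraMap F K).injective, Finset.card_univ]
  have hSsub : S ⊆ P.roots.toFinset := by
    intro x hx
    rw [Finset.mem_image] at hx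
    obtain ⟨a, _, rfl⟩ := hx
    rw [Multiset.mem_toFinset, Polynomial.mem_roots hP0, Polynomial.IsRoot.def, hP]
    simp only [eval_sub, eval_pow, eval_X]
    rw [← map_pow, FiniteField.pow_card, sub_self]
  have hle : P.roots.toFinset.card ≤ S.card := by
    rw [hScard, ← hdeg]
    exact le_trans (Multiset.toFinset_card_le _) (Polynomial.card_roots' P)
  have heq := Finset.eq_of_subset_of_card_le hSsub hle
  have hymem : y ∈ P.roots.toFinset := by
    rw [Multiset.mem_toFinset, Polynomial.mem_roots hP0, Polynomial.IsRoot.def, hP]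
    simp only [eval_sub, eval_pow, eval_X]
    rw [hy, sub_self]
  rw [← heq, Finset.mem_image] at hymem
  obtain ⟨a, _, ha⟩ := hymem
  exact ⟨a, ha⟩

/-- PIECE PL3-TORUSEX [L1]: the Singer torus. -/
theorem exists_orderOf_eq_torusOrd {n : ℕ} (hn : 1 ≤ n) :
    ∃ y : Matrix.ProjectiveSpecialLinearGroup (Fin n) F, orderOf y = torusOrd (Fintype.card F) n := by
  classical
  haveI : NeZero n := ⟨by omega⟩
  have hq1 : 1 < Fintype.card F := Fintype.one_lt_card
  obtain ⟨q, hq⟩ : ∃ q : ℕ, q = Fintype.card F := ⟨_, rfl⟩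
  rw [← hq] at hq1 ⊢
  obtain ⟨hN1, hN2, hN3⟩ := pl3_torusex_num q n hq1
  obtain ⟨N, hN⟩ : ∃ N : ℕ, N = (q ^ n - 1) / (q - 1) := ⟨_, rfl⟩
  obtain ⟨M, hM⟩ : ∃ M : ℕ, M = torusOrd q n := ⟨_, rfl⟩
  rw [← hN] at hN1 hN2 hN3
  rw [← hM] at hN3 ⊢
  have hd0 : 0 < Nat.gcd n (q - 1) := Nat.gcd_pos_of_pos_left _ (by omega)
  let p := ringChar F
  haveI : CharP F p := ringChar.charP F
  haveI : Fact p.Prime := ⟨CharP.char_is_prime F p⟩
  let K := FiniteField.Extension F p n
  have hfr : Module.finrank F K = n := FiniteField.finrank_extension F p n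
  have hcK : Nat.card K = q ^ n := by
    rw [FiniteField.natCard_extension, Nat.card_eq_fintype_card, hq]
  obtain ⟨ζ, hζ⟩ := IsCyclic.exists_generator (α := Kˣ)
  have hζo : orderOf ζ = q ^ n - 1 := by
    rw [orderOf_eq_card_of_forall_mem_zpowers hζ, Nat.card_units, hcK]
  let b : Module.Basis (Fin n) F K := Module.finBasisOfFinrankEq F K hfr
  let φ := Algebra.leftMulMatrix b
  have hφinj : Function.Injective φ := Algebra.leftMulMatrix_injective b
  have hnorm0 : Algebra.norm F (ζ : K) ≠ 0 := by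
    intro h0
    have h1 : Algebra.norm F ((ζ : K) * ((ζ⁻¹ : Kˣ) : K)) = 1 := by
      rw [Units.mul_inv, map_one]
    rw [map_mul, h0, zero_mul] at h1
    exact zero_ne_one h1
  have hdet : (φ ((ζ : K) ^ (q - 1))).det = 1 := by
    rw [← Algebra.norm_eq_matrix_det b, map_pow, hq]
    exact FiniteField.pow_card_sub_one_eq_one _ hnorm0
  let A : Matrix.SpecialLinearGroup (Fin n) F := ⟨φ ((ζ : K) ^ (q - 1)), hdet⟩
  have hAk : ∀ k : ℕ, ((A ^ k : Matrix.SpecialLinearGroup (Fin n) F) : Matrix (Fin n) (Fin n) F) =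
      φ ((ζ : K) ^ ((q - 1) * k)) := by
    intro k
    rw [Matrix.SpecialLinearGroup.coe_pow, pow_mul, map_pow]
  -- scalar matrices
  have hscal : ∀ a : F, φ (algebraMap F K a) = Matrix.scalar (Fin n) a := by
    intro a
    rw [AlgHom.commutes]
    rfl
  have hcent : ∀ k : ℕ, A ^ k ∈ Subgroup.center (Matrix.SpecialLinearGroup (Fin n) F) ↔
      ∃ a : F, a ^ n = 1 ∧ algebraMap F K a = (ζ : K) ^ ((q - 1) * k) := by
    intro k
    rw [Matrix.SpecialLinearGroup.mem_center_iff, hAk, Fintype.card_fin]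
    constructor
    · rintro ⟨a, ha1, ha⟩
      refine ⟨a, ha1, hφinj ?_⟩
      rw [hscal, ha]
    · rintro ⟨a, ha1, ha⟩
      refine ⟨a, ha1, ?_⟩
      rw [← ha, hscal]
  refine ⟨(QuotientGroup.mk A : Matrix.ProjectiveSpecialLinearGroup (Fin n) F), ?_⟩
  apply Nat.dvd_antisymm
  · -- (mk A)^M = 1
    apply orderOf_dvd_of_pow_eq_one
    rw [← QuotientGroup.mk_pow, QuotientGroup.eq_one_iff, hcent]
    -- ζ^((q-1) M (q-1)) = 1
    have h2 : ((ζ : K) ^ ((q - 1) * M)) ^ (q - 1) = 1 := by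
      obtain ⟨e, he⟩ := Nat.gcd_dvd_right n (q - 1)
      obtain ⟨d, hd⟩ : ∃ d : ℕ, d = Nat.gcd n (q - 1) := ⟨_, rfl⟩
      rw [← hd] at he
      have h3 : (q - 1) * M * (q - 1) = (q ^ n - 1) * e := by
        rw [← hN1, ← hN3, ← hd]
        calc (q - 1) * M * (q - 1) = (q - 1) * M * (d * e) := by rw [← he]
          _ = (q - 1) * (d * M) * e := by ring
      rw [← pow_mul, h3, pow_mul, ← hζo, ← Units.val_pow_eq_pow_val, pow_orderOf_eq_one,
        Units.val_one, one_pow]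
    have h4 : ((ζ : K) ^ ((q - 1) * M)) ^ Fintype.card F = (ζ : K) ^ ((q - 1) * M) := by
      have h5 : Fintype.card F = (q - 1) + 1 := by omega
      rw [h5, pow_succ, h2, one_mul]
    obtain ⟨a, ha⟩ := pl3_torusex_mem_range_of_pow_card _ h4
    refine ⟨a, ?_, ha⟩
    have h6 : (φ ((ζ : K) ^ ((q - 1) * M))).det = 1 := by
      rw [pow_mul, map_pow, Matrix.det_pow, hdet, one_pow]
    rw [← ha, hscal] at h6
    simpa using h6
  · -- M ∣ order
    obtain ⟨k, hk⟩ : ∃ k : ℕ, k = orderOf (QuotientGroup.mk A :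
        Matrix.ProjectiveSpecialLinearGroup (Fin n) F) := ⟨_, rfl⟩
    rw [← hk]
    have h1 : A ^ k ∈ Subgroup.center (Matrix.SpecialLinearGroup (Fin n) F) := by
      rw [← QuotientGroup.eq_one_iff, QuotientGroup.mk_pow, hk, pow_orderOf_eq_one]
    rw [hcent] at h1
    obtain ⟨a, ha1, ha⟩ := h1
    have ha0 : a ≠ 0 := by
      rintro rfl
      rw [zero_pow (by omega)] at ha1
      exact zero_ne_one ha1
    have h2 : ζ ^ ((q - 1) * k * (q - 1)) = 1 := by
      apply Units.ext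
      rw [Units.val_pow_eq_pow_val, pow_mul, ← ha, ← map_pow, hq,
        FiniteField.pow_card_sub_one_eq_one a ha0, map_one, Units.val_one]
    have h3 := orderOf_dvd_of_pow_eq_one h2
    rw [hζo, ← hN1, mul_assoc] at h3
    have h4 : N ∣ k * (q - 1) := Nat.dvd_of_mul_dvd_mul_left (by omega) h3
    exact pl3_torusex_arith N n (q - 1) M k hd0 hN3 hN2 h4

end Cfsg.Agent.Helper21.PL3
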