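import Mathlib
import Cfsg.Agent.Lib.Helper21.PL3Defs
import Cfsg.Agent.Lib.PL3.PL3KEY
import Cfsg.Agent.Lib.PL3.PL3TORUSEX
import Cfsg.Agent.Lib.PL3.PL3ORDR
import Cfsg.Agent.Lib.PL3.PL3LCM

/-!
# S2510 piece PL3-GOALA: three element orders of `PSL_n(q)` and the prime `r`.
-/

set_option autoImplicit false
set_option linter.unusedSectionVars false
set_option linter.unusedVariables false

namespace Cfsg.Agent.Helper21.PL3

open Polynomial

/-- an element of order `p ^ t * c` has a power of order `p ^ t` -/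
theorem pl3_goala_ppow {L : Type*} [Group L] (x : L) (p t c : ℕ) (hc : 0 < c)
    (hx : orderOf x = p ^ t * c) : ∃ y : L, orderOf y = p ^ t := by
  refine ⟨x ^ c, ?_⟩
  rw [orderOf_pow_of_dvd hc.ne' (by rw [hx]; exact Dvd.intro_left _ rfl), hx,
    Nat.mul_div_cancel _ hc]

/-- an element of order `M` has powers of every order dividing `M` -/
theorem pl3_goala_dvd {L : Type*} [Group L] (y : L) (M c : ℕ) (h : orderOf y = M) (hc : c ∣ M)
    (hM : 0 < M) : ∃ z : L, orderOf z = c := by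
  obtain ⟨k, hk⟩ := hc
  refine ⟨y ^ k, ?_⟩
  have hk0 : k ≠ 0 := by rintro rfl; omega
  rw [orderOf_pow_of_dvd hk0 (by rw [h, hk]; exact Dvd.intro_left _ rfl), h, hk,
    Nat.mul_div_cancel _ (Nat.pos_of_ne_zero hk0)]

theorem pl3_goala_not_dvd_lcm (p : ℕ) (hp : p.Prime) (a b : ℕ) (ha : ¬ p ∣ a) (hb : ¬ p ∣ b) :
    ¬ p ∣ Nat.lcm a b := by
  intro h
  have h1 : p ∣ a * b := dvd_trans h (Nat.lcm_dvd_mul a b)
  rcases (Nat.Prime.dvd_mul hp).1 h1 with h2 | h2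
  · exact ha h2
  · exact hb h2

theorem pl3_goala_lcm_pow (p : ℕ) (hp : p.Prime) (t C : ℕ) (hC : ¬ p ∣ C) :
    Nat.lcm (p ^ t) C = p ^ t * C :=
  Nat.Coprime.lcm_eq_mul (Nat.Coprime.pow_left t ((Nat.Prime.coprime_iff_not_dvd hp).2 hC))

variable {F : Type*} [Field F] [Fintype F]

/-- PIECE PL3-GOALA [L4]. -/
theorem goalA {n : ℕ} (hn : 2 ≤ n) (p : ℕ) [Fact p.Prime] [CharP F p] (r : ℕ) (hr : r.Prime)
    (hrq : r ∣ Fintype.card F - 1) (hrn : ¬ r ∣ n)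
    (x1 x2 x3 : Matrix.ProjectiveSpecialLinearGroup (Fin n) F) :
    ∃ y1 y2 y3 : Matrix.ProjectiveSpecialLinearGroup (Fin n) F,
      Nat.lcm (orderOf y1) (Nat.lcm (orderOf y2) (orderOf y3)) =
        Nat.lcm (Nat.lcm (orderOf x1) (Nat.lcm (orderOf x2) (orderOf x3))) r := by
  classical
  have hp : p.Prime := Fact.out
  haveI : Finite (Matrix.ProjectiveSpecialLinearGroup (Fin n) F) := by
    unfold Matrix.ProjectiveSpecialLinearGroup
    infer_instance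
  by_cases h1 : Good r x1
  · obtain ⟨y, hy⟩ := h1
    refine ⟨y, x2, x3, ?_⟩
    rw [hy]
    ac_rfl
  by_cases h2 : Good r x2
  · obtain ⟨y, hy⟩ := h2
    refine ⟨x1, y, x3, ?_⟩
    rw [hy]
    ac_rfl
  by_cases h3 : Good r x3
  · obtain ⟨y, hy⟩ := h3
    refine ⟨x1, x2, y, ?_⟩
    rw [hy]
    ac_rfl
  obtain ⟨t1, c1, ho1, hp1, hd1⟩ := key hn p r hr hrq hrn x1 h1
  obtain ⟨t2, c2, ho2, hp2, hd2⟩ := key hn p r hr hrq hrn x2 h2
  obtain ⟨t3, c3, ho3, hp3, hd3⟩ := key hn p r hr hrq hrn x3 h3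
  have hc1 : 0 < c1 := Nat.pos_of_ne_zero (by rintro rfl; exact hp1 (dvd_zero p))
  have hc2 : 0 < c2 := Nat.pos_of_ne_zero (by rintro rfl; exact hp2 (dvd_zero p))
  have hc3 : 0 < c3 := Nat.pos_of_ne_zero (by rintro rfl; exact hp3 (dvd_zero p))
  -- the torus
  obtain ⟨y0, hy0⟩ := exists_orderOf_eq_torusOrd (F := F) (by omega : 1 ≤ n)
  have hM : 0 < torusOrd (Fintype.card F) n := by rw [← hy0]; exact orderOf_pos y0
  obtain ⟨yC, hyC⟩ := pl3_goala_dvd y0 _ (Nat.lcm c1 (Nat.lcm c2 c3)) hy0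
    (Nat.lcm_dvd hd1 (Nat.lcm_dvd hd2 hd3)) hM
  obtain ⟨yr, hyr⟩ := exists_orderOf_eq_r (F := F) hn r hr hrq hrn
  -- the `p`-part
  have hyp : ∃ y : Matrix.ProjectiveSpecialLinearGroup (Fin n) F,
      orderOf y = p ^ (max t1 (max t2 t3)) := by
    rcases max_choice t1 (max t2 t3) with h | h
    · rw [h]; exact pl3_goala_ppow x1 p t1 c1 hc1 ho1
    · rw [h]
      rcases max_choice t2 t3 with h' | h'
      · rw [h']; exact pl3_goala_ppow x2 p t2 c2 hc2 ho2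
      · rw [h']; exact pl3_goala_ppow x3 p t3 c3 hc3 ho3
  obtain ⟨yp, hyp⟩ := hyp
  refine ⟨yp, yC, yr, ?_⟩
  have hC : ¬ p ∣ Nat.lcm c1 (Nat.lcm c2 c3) :=
    pl3_goala_not_dvd_lcm p hp _ _ hp1 (pl3_goala_not_dvd_lcm p hp _ _ hp2 hp3)
  rw [hyp, hyC, hyr, ho1, ho2, ho3, lcm_three p hp t1 t2 t3 c1 c2 c3 hp1 hp2 hp3,
    ← pl3_goala_lcm_pow p hp _ _ hC]
  ac_rfl

end Cfsg.Agent.Helper21.PL3
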