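import Mathlib
import Cfsg.Agent.Lib.Helper21.PL3Defs

/-!
# S2510, piece PL3-PBOUND: if `p ^ t` divides the order of an element of `PSL_n(F)` (`char F = p`, `t ≥ 1`)
then `p ^ (t - 1) < n`.
-/

set_option autoImplicit false
set_option linter.unusedSectionVars false
set_option linter.unusedVariables false

namespace Cfsg.Agent.Helper21.PL3

open Polynomial

variable {F : Type*} [Field F] [Fintype F]

/-- a nilpotent `n × n` matrix over a field has `M ^ n = 0`. -/
theorem pl3_pbound_pow_card_eq_zero {n : ℕ} (M : Matrix (Fin n) (Fin n) F) (h : IsNilpotent M) :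
    M ^ n = 0 := by
  have h1 := Matrix.isNilpotent_charpoly_sub_pow_of_isNilpotent h
  have h2 : M.charpoly = X ^ (Fintype.card (Fin n)) := by
    rw [← sub_eq_zero]; exact h1.eq_zero
  have h3 := Matrix.aeval_self_charpoly M
  rw [h2, Fintype.card_fin] at h3
  simpa using h3

/-- the `p`-part of the order of an element of `SL_n(F)`. -/
theorem pl3_pbound_sl {n : ℕ} (p : ℕ) [Fact p.Prime] [CharP F p]
    (g : Matrix.SpecialLinearGroup (Fin n) F) (s : ℕ) (hs : 1 ≤ s)
    (h : p ^ s ∣ orderOf g) : p ^ (s - 1) < n := by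
  have hp : p.Prime := Fact.out
  by_contra hn
  push Not at hn
  rcases Nat.eq_zero_or_pos n with h0 | hpos
  · subst h0
    have : orderOf g = 1 := by
      rw [orderOf_eq_one_iff]
      exact Subsingleton.elim _ _
    rw [this, Nat.dvd_one] at h
    have := Nat.one_lt_pow (by omega : s ≠ 0) hp.one_lt
    omega
  have : NeZero n := ⟨by omega⟩
  obtain ⟨m, hm⟩ := h
  have hN : 0 < orderOf g := orderOf_pos g
  have hm0 : m ≠ 0 := by
    rintro rfl
    rw [mul_zero] at hm
    omega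
  set U : Matrix (Fin n) (Fin n) F := ((g ^ m : Matrix.SpecialLinearGroup (Fin n) F) :
    Matrix (Fin n) (Fin n) F) with hU
  have hU1 : U ^ (p ^ s) = 1 := by
    rw [hU, ← Matrix.SpecialLinearGroup.coe_pow, ← pow_mul, mul_comm, ← hm, pow_orderOf_eq_one]
    rfl
  have hnil : (U - 1) ^ (p ^ s) = 0 := by
    rw [sub_pow_char_pow_of_commute p s (Commute.one_right U), hU1, one_pow, sub_self]
  have hn0 : (U - 1) ^ n = 0 := pl3_pbound_pow_card_eq_zero _ ⟨_, hnil⟩
  have h1 : (U - 1) ^ (p ^ (s - 1)) = 0 := pow_eq_zero_of_le hn hn0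
  have h2 : U ^ (p ^ (s - 1)) = 1 := by
    rw [sub_pow_char_pow_of_commute p (s - 1) (Commute.one_right U), one_pow, sub_eq_zero] at h1
    exact h1
  have h3 : g ^ (m * p ^ (s - 1)) = 1 := by
    apply Subtype.ext
    rw [pow_mul, Matrix.SpecialLinearGroup.coe_pow]
    exact h2
  have h4 := orderOf_dvd_of_pow_eq_one h3
  rw [hm, mul_comm] at h4
  have h5 : p ^ s ∣ p ^ (s - 1) := Nat.dvd_of_mul_dvd_mul_left (Nat.pos_of_ne_zero hm0) h4
  have h6 := Nat.le_of_dvd (pow_pos hp.pos _) h5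
  have h7 : p ^ (s - 1) < p ^ s := Nat.pow_lt_pow_right hp.one_lt (by omega)
  omega

/-- PIECE PL3-PBOUND [L1]. -/
theorem pow_lt_of_pow_dvd_orderOf {n : ℕ} (p : ℕ) [Fact p.Prime] [CharP F p]
    (x : Matrix.ProjectiveSpecialLinearGroup (Fin n) F) (t : ℕ) (ht : 1 ≤ t)
    (hx : p ^ t ∣ orderOf x) : p ^ (t - 1) < n := by
  obtain ⟨g, rfl⟩ := QuotientGroup.mk_surjective x
  have h1 : orderOf (QuotientGroup.mk g : Matrix.ProjectiveSpecialLinearGroup (Fin n) F) ∣
      orderOf g :=
    orderOf_map_dvd (QuotientGroup.mk' (Subgroup.center (Matrix.SpecialLinearGroup (Fin n) F))) g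
  exact pl3_pbound_sl p g t ht (dvd_trans hx h1)

end Cfsg.Agent.Helper21.PL3
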