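import Mathlib
import Cfsg.Agent.Lib.Helper21.PL3Defs

/-!
# S2510 piece PL3-UNIP (helper22): a unipotent element of `SL_n(F)` with one Jordan block of size
`p^(t-1)+1`, of order `p^t` in `PSL_n(F)`, commuting with a nontrivial idempotent.
-/

set_option autoImplicit false
set_option linter.unusedSectionVars false
set_option linter.unusedVariables false

namespace Cfsg.Agent.Helper21.PL3

open Polynomial

variable {F : Type*} [Field F] [Fintype F]

/-- the nilpotent matrix `∑_{i<m} E_{i,i+1}` -/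
def pl3_unip_N (F : Type*) [Field F] (n m : ℕ) : Matrix (Fin n) (Fin n) F :=
  Matrix.of fun i j => if i.val + 1 = j.val ∧ j.val ≤ m then 1 else 0

theorem pl3_unip_N_apply (n m : ℕ) (i j : Fin n) :
    pl3_unip_N F n m i j = if i.val + 1 = j.val ∧ j.val ≤ m then 1 else 0 := rfl

theorem pl3_unip_N_pow (n m k : ℕ) (i j : Fin n) :
    ((pl3_unip_N F n m) ^ (k + 1)) i j =
      if i.val + (k + 1) = j.val ∧ j.val ≤ m then 1 else 0 := by
  induction k generalizing j with
  | zero => rw [zero_add, pow_one, pl3_unip_N_apply]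
  | succ k ih =>
    rw [pow_succ, Matrix.mul_apply]
    simp only [ih, pl3_unip_N_apply]
    by_cases h : i.val + (k + 1 + 1) = j.val ∧ j.val ≤ m
    · rw [if_pos h]
      have hj : j.val - 1 < n := by omega
      rw [Finset.sum_eq_single (⟨j.val - 1, hj⟩ : Fin n)]
      · rw [if_pos (show i.val + (k + 1) = j.val - 1 ∧ j.val - 1 ≤ m by omega),
          if_pos (show j.val - 1 + 1 = j.val ∧ j.val ≤ m by omega), mul_one]
      · intro l _ hl
        by_cases h1 : i.val + (k + 1) = l.val ∧ l.val ≤ m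
        · rw [if_pos h1, one_mul, if_neg]
          rintro ⟨h2, _⟩
          apply hl
          apply Fin.ext
          show l.val = j.val - 1
          omega
        · rw [if_neg h1, zero_mul]
      · intro hc
        exact absurd (Finset.mem_univ _) hc
    · rw [if_neg h]
      apply Finset.sum_eq_zero
      intro l _
      by_cases h1 : i.val + (k + 1) = l.val ∧ l.val ≤ m
      · rw [if_pos h1, one_mul, if_neg]
        rintro ⟨h2, h3⟩
        apply h
        omega
      · rw [if_neg h1, zero_mul]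

theorem pl3_unip_N_pow_eq_zero (n m k : ℕ) (hk : m < k) : (pl3_unip_N F n m) ^ k = 0 := by
  obtain ⟨k', rfl⟩ : ∃ k', k = k' + 1 := ⟨k - 1, by omega⟩
  ext i j
  rw [pl3_unip_N_pow, if_neg, Matrix.zero_apply]
  rintro ⟨h1, h2⟩
  omega

/-- the idempotent: projection on the coordinates `0, …, m` -/
def pl3_unip_e (F : Type*) [Field F] (n m : ℕ) : Matrix (Fin n) (Fin n) F :=
  Matrix.diagonal fun i => if i.val ≤ m then 1 else 0

theorem pl3_unip_e_mul_N (n m : ℕ) : pl3_unip_e F n m * pl3_unip_N F n m = pl3_unip_N F n m := by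
  ext i j
  rw [pl3_unip_e, Matrix.diagonal_mul, pl3_unip_N_apply]
  by_cases h : i.val + 1 = j.val ∧ j.val ≤ m
  · rw [if_pos h, if_pos (by omega), one_mul]
  · rw [if_neg h, mul_zero]

theorem pl3_unip_N_mul_e (n m : ℕ) : pl3_unip_N F n m * pl3_unip_e F n m = pl3_unip_N F n m := by
  ext i j
  rw [pl3_unip_e, Matrix.mul_diagonal, pl3_unip_N_apply]
  by_cases h : i.val + 1 = j.val ∧ j.val ≤ m
  · rw [if_pos h, if_pos h.2, mul_one]
  · rw [if_neg h, zero_mul]

/-- PIECE PL3-UNIP -/
theorem exists_unipotent {n : ℕ} (p : ℕ) [Fact p.Prime] [CharP F p] (t : ℕ) (ht : 1 ≤ t)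
    (hn : p ^ (t - 1) + 2 ≤ n) :
    ∃ (u : Matrix.SpecialLinearGroup (Fin n) F) (e : Matrix (Fin n) (Fin n) F),
      e * e = e ∧ e ≠ 0 ∧ e ≠ 1 ∧ Commute e (u : Matrix (Fin n) (Fin n) F) ∧
      orderOf (QuotientGroup.mk u : Matrix.ProjectiveSpecialLinearGroup (Fin n) F) = p ^ t := by
  classical
  have hp : p.Prime := Fact.out
  set m : ℕ := p ^ (t - 1) with hm
  have hm1 : 1 ≤ m := Nat.one_le_pow _ _ hp.pos
  have hpt : p ^ t = p * m := by
    rw [hm, ← pow_succ']
    congr 1
    omega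
  have hmlt : m < p ^ t := by
    rw [hpt]
    have := hp.two_le
    nlinarith
  have hne : Nonempty (Fin n) := ⟨⟨0, by omega⟩⟩
  set N : Matrix (Fin n) (Fin n) F := pl3_unip_N F n m with hN
  -- `(1 + N)^(p^k) = 1 + N^(p^k)`
  have hfrob : ∀ k : ℕ, (1 + N) ^ p ^ k = 1 + N ^ p ^ k := by
    intro k
    rw [add_pow_char_pow_of_commute p k (Commute.one_left N), one_pow]
  have hpow1 : (1 + N) ^ p ^ t = 1 := by
    rw [hfrob, pl3_unip_N_pow_eq_zero n m _ hmlt, add_zero]
  -- determinant
  have hdet : (1 + N).det = 1 := by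
    have h1 : (1 + N).det ^ p ^ t = 1 := by
      rw [← Matrix.det_pow, hpow1, Matrix.det_one]
    have h2 : ((1 + N).det - 1) ^ p ^ t = 0 := by
      rw [sub_pow_char_pow, h1, one_pow, sub_self]
    exact sub_eq_zero.1 (pow_eq_zero_iff (pow_pos hp.pos t).ne' |>.1 h2)
  set u : Matrix.SpecialLinearGroup (Fin n) F := ⟨1 + N, hdet⟩ with hu
  have hucoe : (u : Matrix (Fin n) (Fin n) F) = 1 + N := rfl
  have hupow : ∀ k : ℕ, ((u ^ k : Matrix.SpecialLinearGroup (Fin n) F) : Matrix (Fin n) (Fin n) F)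
      = (1 + N) ^ k := by
    intro k
    rw [Matrix.SpecialLinearGroup.coe_pow, hucoe]
  refine ⟨u, pl3_unip_e F n m, ?_, ?_, ?_, ?_, ?_⟩
  · -- idempotent
    rw [pl3_unip_e, Matrix.diagonal_mul_diagonal]
    congr 1
    funext i
    by_cases h : i.val ≤ m <;> simp [h]
  · -- `e ≠ 0`
    intro h
    have := congrFun (congrFun h ⟨0, by omega⟩) ⟨0, by omega⟩
    simp [pl3_unip_e] at this
  · -- `e ≠ 1`
    intro h
    have := congrFun (congrFun h ⟨m + 1, by omega⟩) ⟨m + 1, by omega⟩
    simp [pl3_unip_e] at this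
  · -- commute
    show pl3_unip_e F n m * (1 + N) = (1 + N) * pl3_unip_e F n m
    rw [mul_add, add_mul, mul_one, one_mul, hN, pl3_unip_e_mul_N, pl3_unip_N_mul_e]
  · -- the order
    obtain ⟨t', rfl⟩ : ∃ t', t = t' + 1 := ⟨t - 1, by omega⟩
    rw [Nat.add_sub_cancel] at hm
    apply orderOf_eq_prime_pow
    · -- `(mk u)^(p^t') ≠ 1`
      rw [← QuotientGroup.mk_pow, QuotientGroup.eq_one_iff,
        Matrix.SpecialLinearGroup.mem_center_iff]
      rintro ⟨r, _, hr⟩
      rw [hupow, hfrob, ← hm] at hr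
      have h0m := congrFun (congrFun hr ⟨0, by omega⟩) ⟨m, by omega⟩
      obtain ⟨m', hm'⟩ : ∃ m', m = m' + 1 := ⟨m - 1, by omega⟩
      have hNm : (N ^ m) ⟨0, by omega⟩ ⟨m, by omega⟩ = 1 := by
        have e : N ^ m = (pl3_unip_N F n m) ^ (m' + 1) := by rw [hN, ← hm']
        rw [e, pl3_unip_N_pow, if_pos]
        exact ⟨show 0 + (m' + 1) = m by omega, le_refl m⟩
      rw [Matrix.add_apply, hNm, Matrix.one_apply_ne (by
        intro h; have := congrArg Fin.val h; simp at this; omega)] at h0m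
      rw [Matrix.scalar_apply, Matrix.diagonal_apply_ne _ (by
        intro h; have := congrArg Fin.val h; simp at this; omega)] at h0m
      simp at h0m
    · -- `(mk u)^(p^(t'+1)) = 1`
      rw [← QuotientGroup.mk_pow]
      have : u ^ p ^ (t' + 1) = 1 := by
        apply Subtype.ext
        rw [hupow, hpow1]
        rfl
      rw [this]
      rfl

end Cfsg.Agent.Helper21.PL3
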