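import Mathlib
import Cfsg.Agent.Lib.Helper21.PL3Defs
import Cfsg.Agent.Lib.PL3.PL3KEY
import Cfsg.Agent.Lib.PL3.PL3TORUSEX
import Cfsg.Agent.Lib.PL3.PL3ORDR
import Cfsg.Agent.Lib.PL3.PL3LCM
import Cfsg.Agent.Lib.PL3.PL3PBOUND
import Cfsg.Agent.Lib.PL3.PL3UNIP
import Cfsg.Agent.Lib.PL3.PL3GOODDEC
import Cfsg.Agent.Lib.PL3.PL3GOALA

/-!
# S2510 piece PL3-GOALB: two element orders of `PSL_n(q)` and the prime `r`, `n - 1` not a power of `p`.
-/

set_option autoImplicit false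
set_option linter.unusedSectionVars false
set_option linter.unusedVariables false

namespace Cfsg.Agent.Helper21.PL3

open Polynomial

variable {F : Type*} [Field F] [Fintype F]

/-- PIECE PL3-GOALB [L4]. -/
theorem goalB {n : ℕ} (hn : 2 ≤ n) (p : ℕ) [Fact p.Prime] [CharP F p] (r : ℕ) (hr : r.Prime)
    (hrq : r ∣ Fintype.card F - 1) (hrn : ¬ r ∣ n) (hnp : ¬ ∃ j : ℕ, n - 1 = p ^ j)
    (x1 x2 : Matrix.ProjectiveSpecialLinearGroup (Fin n) F) :
    ∃ y1 y2 : Matrix.ProjectiveSpecialLinearGroup (Fin n) F,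
      Nat.lcm (orderOf y1) (orderOf y2) = Nat.lcm (Nat.lcm (orderOf x1) (orderOf x2)) r := by
  classical
  have hp : p.Prime := Fact.out
  haveI : Finite (Matrix.ProjectiveSpecialLinearGroup (Fin n) F) := by
    unfold Matrix.ProjectiveSpecialLinearGroup
    infer_instance
  by_cases h1 : Good r x1
  · obtain ⟨y, hy⟩ := h1
    refine ⟨y, x2, ?_⟩
    rw [hy]
    ac_rfl
  by_cases h2 : Good r x2
  · obtain ⟨y, hy⟩ := h2
    refine ⟨x1, y, ?_⟩
    rw [hy]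
    ac_rfl
  obtain ⟨t1, c1, ho1, hp1, hd1⟩ := key hn p r hr hrq hrn x1 h1
  obtain ⟨t2, c2, ho2, hp2, hd2⟩ := key hn p r hr hrq hrn x2 h2
  have hc1 : 0 < c1 := Nat.pos_of_ne_zero (by rintro rfl; exact hp1 (dvd_zero p))
  have hc2 : 0 < c2 := Nat.pos_of_ne_zero (by rintro rfl; exact hp2 (dvd_zero p))
  obtain ⟨y0, hy0⟩ := exists_orderOf_eq_torusOrd (F := F) (by omega : 1 ≤ n)
  have hM : 0 < torusOrd (Fintype.card F) n := by rw [← hy0]; exact orderOf_pos y0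
  obtain ⟨yC, hyC⟩ := pl3_goala_dvd y0 _ (Nat.lcm c1 c2) hy0 (Nat.lcm_dvd hd1 hd2) hM
  have hC : ¬ p ∣ Nat.lcm c1 c2 := pl3_goala_not_dvd_lcm p hp _ _ hp1 hp2
  -- an element whose order is `lcm (p ^ t) r`, `t = max t1 t2`
  have hyp : ∃ y : Matrix.ProjectiveSpecialLinearGroup (Fin n) F,
      orderOf y = Nat.lcm (p ^ (max t1 t2)) r := by
    rcases Nat.eq_zero_or_pos (max t1 t2) with h0 | hpos
    · rw [h0, pow_zero, Nat.lcm_one_left]
      exact exists_orderOf_eq_r (F := F) hn r hr hrq hrn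
    · -- some `x_j` has order divisible by `p ^ t`
      have hdv : ∃ x : Matrix.ProjectiveSpecialLinearGroup (Fin n) F,
          p ^ (max t1 t2) ∣ orderOf x := by
        rcases max_choice t1 t2 with h | h
        · exact ⟨x1, by rw [h, ho1]; exact Dvd.intro _ rfl⟩
        · exact ⟨x2, by rw [h, ho2]; exact Dvd.intro _ rfl⟩
      obtain ⟨x, hxd⟩ := hdv
      have hlt := pow_lt_of_pow_dvd_orderOf p x (max t1 t2) hpos hxd
      have hne : n - 1 ≠ p ^ (max t1 t2 - 1) := fun h => hnp ⟨_, h⟩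
      have hn' : p ^ (max t1 t2 - 1) + 2 ≤ n := by omega
      obtain ⟨u, e, he, he0, he1, hcomm, hou⟩ := exists_unipotent (F := F) p (max t1 t2) hpos hn'
      have hg := good_of_idempotent r hr hrq hrn u e he he0 he1 hcomm
      obtain ⟨y, hy⟩ := hg
      exact ⟨y, by rw [hy, hou]⟩
  obtain ⟨yp, hyp⟩ := hyp
  refine ⟨yp, yC, ?_⟩
  rw [hyp, hyC, ho1, ho2, lcm_two p hp t1 t2 c1 c2 hp1 hp2, ← pl3_goala_lcm_pow p hp _ _ hC]
  ac_rfl

end Cfsg.Agent.Helper21.PL3
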