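import Mathlib
import Cfsg.Agent.Lib.Helper21.PL3Defs

/-!
# S2510, piece PL3-RED (helper8): reduction of the statements about `L × L × L × Z_r^m` and
`L × L × Z_r^m` to statements on element orders of `L`.
-/

set_option autoImplicit false
set_option linter.unusedSectionVars false
set_option linter.unusedVariables false

namespace Cfsg.Agent.Helper21.PL3

open Polynomial

/-- every element of `Multiplicative (Fin m → ZMod r)` has order `1` or `r` (`r` prime) -/
theorem pl3_red_orderOf (r m : ℕ) (hr : r.Prime) (e : Multiplicative (Fin m → ZMod r)) :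
    orderOf e = 1 ∨ orderOf e = r := by
  have h1 : e ^ r = 1 := by
    apply Multiplicative.toAdd.injective
    rw [toAdd_pow, toAdd_one]
    ext i
    simp
  have h2 : orderOf e ∣ r := orderOf_dvd_of_pow_eq_one h1
  exact (Nat.dvd_prime hr).1 h2

/-- PIECE PL3-RED [L1] (1/2). -/
theorem range_orderOf_prod3 {L : Type*} [Group L] (r m : ℕ) (hr : r.Prime)
    (h : ∀ x1 x2 x3 : L, ∃ y1 y2 y3 : L,
      Nat.lcm (orderOf y1) (Nat.lcm (orderOf y2) (orderOf y3)) =
        Nat.lcm (Nat.lcm (orderOf x1) (Nat.lcm (orderOf x2) (orderOf x3))) r) :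
    Set.range (orderOf : L × L × L × Multiplicative (Fin m → ZMod r) → ℕ) =
      Set.range (orderOf : L × L × L → ℕ) := by
  apply Set.Subset.antisymm
  · rintro _ ⟨⟨x1, x2, x3, e⟩, rfl⟩
    rcases pl3_red_orderOf r m hr e with he | he
    · refine ⟨(x1, x2, x3), ?_⟩
      simp only [Prod.orderOf, he, Nat.lcm_one_right]
    · obtain ⟨y1, y2, y3, hy⟩ := h x1 x2 x3
      refine ⟨(y1, y2, y3), ?_⟩
      simp only [Prod.orderOf, he]
      rw [hy, Nat.lcm_assoc, Nat.lcm_assoc]
  · rintro _ ⟨⟨x1, x2, x3⟩, rfl⟩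
    refine ⟨(x1, x2, x3, 1), ?_⟩
    simp only [Prod.orderOf, orderOf_one, Nat.lcm_one_right]

/-- PIECE PL3-RED (2/2). -/
theorem range_orderOf_prod2 {L : Type*} [Group L] (r m : ℕ) (hr : r.Prime)
    (h : ∀ x1 x2 : L, ∃ y1 y2 : L,
      Nat.lcm (orderOf y1) (orderOf y2) = Nat.lcm (Nat.lcm (orderOf x1) (orderOf x2)) r) :
    Set.range (orderOf : L × L × Multiplicative (Fin m → ZMod r) → ℕ) =
      Set.range (orderOf : L × L → ℕ) := by
  apply Set.Subset.antisymm
  · rintro _ ⟨⟨x1, x2, e⟩, rfl⟩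
    rcases pl3_red_orderOf r m hr e with he | he
    · refine ⟨(x1, x2), ?_⟩
      simp only [Prod.orderOf, he, Nat.lcm_one_right]
    · obtain ⟨y1, y2, hy⟩ := h x1 x2
      refine ⟨(y1, y2), ?_⟩
      simp only [Prod.orderOf, he]
      rw [hy, Nat.lcm_assoc]
  · rintro _ ⟨⟨x1, x2⟩, rfl⟩
    refine ⟨(x1, x2, 1), ?_⟩
    simp only [Prod.orderOf, orderOf_one, Nat.lcm_one_right]

end Cfsg.Agent.Helper21.PL3
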